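import Mathlib.LinearAlgebra.Matrix.GeneralLinearGroup.Defs
import Mathlib.LinearAlgebra.Matrix.Block
import Mathlib.LinearAlgebra.Matrix.NonsingularInverse
import Mathlib.Tactic.Ring
import Mathlib.Tactic.Group

/-!
# Regular unipotent upper triangular matrices with equal superdiagonals are conjugate
by an element of determinant one
-/

set_option autoImplicit false

namespace Cfsg.Agent.H505.S4536

universe u

open Matrix

/-- upper unitriangular matrices -/
def UT {F : Type u} [Field F] {n : ℕ} (x : Matrix (Fin n) (Fin n) F) : Prop :=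
  (∀ i, x i i = 1) ∧ ∀ i j, j < i → x i j = 0

variable {F : Type u} [Field F]

theorem UT.mul {n : ℕ} {x y : Matrix (Fin n) (Fin n) F} (hx : UT x) (hy : UT y) : UT (x * y) := by
  constructor
  · intro i
    rw [Matrix.mul_apply, Finset.sum_eq_single i]
    · rw [hx.1, hy.1, one_mul]
    · intro j _ hj
      rcases lt_or_gt_of_ne hj with h | h
      · rw [hx.2 _ _ h, zero_mul]
      · rw [hy.2 _ _ h, mul_zero]
    · intro h; exact absurd (Finset.mem_univ _) h
  · intro i j hij
    rw [Matrix.mul_apply]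
    refine Finset.sum_eq_zero fun k _ => ?_
    rcases lt_or_ge k i with h | h
    · rw [hx.2 _ _ h, zero_mul]
    · rw [hy.2 _ _ (hij.trans_le h), mul_zero]

theorem UT.one {n : ℕ} : UT (1 : Matrix (Fin n) (Fin n) F) :=
  ⟨fun i => Matrix.one_apply_eq i, fun _ _ h => Matrix.one_apply_ne h.ne'⟩

theorem UT.det {n : ℕ} {x : Matrix (Fin n) (Fin n) F} (hx : UT x) : x.det = 1 := by
  rw [Matrix.det_of_upperTriangular (fun i j h => hx.2 i j h)]
  exact Finset.prod_eq_one fun i _ => hx.1 i

theorem UT.mul_sup {m : ℕ} {x y : Matrix (Fin (m + 1)) (Fin (m + 1)) F} (hx : UT x) (hy : UT y)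
    (i : Fin m) : (x * y) i.castSucc i.succ = x i.castSucc i.succ + y i.castSucc i.succ := by
  rw [Matrix.mul_apply, Finset.sum_eq_add i.castSucc i.succ (Fin.castSucc_lt_succ).ne]
  · rw [hx.1, hy.1, one_mul, mul_one, add_comm]
  · rintro k _ ⟨h1, h2⟩
    rcases lt_or_gt_of_ne h1 with h | h
    · rw [hx.2 _ _ h, zero_mul]
    · have h3 : i.succ < k := by
        rw [Fin.lt_def] at h ⊢
        have h4 : (k : ℕ) ≠ i.succ := fun h5 => h2 (Fin.ext h5)
        simp only [Fin.val_castSucc, Fin.val_succ] at h h4 ⊢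
        omega
      rw [hy.2 _ _ h3, mul_zero]
  · intro h; exact absurd (Finset.mem_univ _) h
  · intro h; exact absurd (Finset.mem_univ _) h

section jordan

variable {m : ℕ} (S : ℕ → F)

/-- the superdiagonal matrix -/
def D (m : ℕ) (S : ℕ → F) : Matrix (Fin (m + 1)) (Fin (m + 1)) F :=
  Matrix.of fun j k => if (j : ℕ) + 1 = k then S j else 0

/-- the chain of vectors -/
noncomputable def w (S : ℕ → F) (x : Matrix (Fin (m + 1)) (Fin (m + 1)) F) : ℕ → Fin (m + 1) → F
  | 0 => Pi.single (Fin.last m) 1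
  | r + 1 => (S (m - 1 - r))⁻¹ • ((x - 1) *ᵥ w S x r)

theorem w_zero (x : Matrix (Fin (m + 1)) (Fin (m + 1)) F) : w S x 0 = Pi.single (Fin.last m) 1 := rfl

theorem w_succ (x : Matrix (Fin (m + 1)) (Fin (m + 1)) F) (r : ℕ) :
    w S x (r + 1) = (S (m - 1 - r))⁻¹ • ((x - 1) *ᵥ w S x r) := rfl

theorem sub_one_apply_of_le {x : Matrix (Fin (m + 1)) (Fin (m + 1)) F} (hx : UT x) {i j : Fin (m + 1)}
    (h : j ≤ i) : (x - 1) i j = 0 := by
  rw [Matrix.sub_apply]
  rcases h.eq_or_lt with h | h
  · rw [h, hx.1, Matrix.one_apply_eq, sub_self]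
  · rw [hx.2 _ _ h, Matrix.one_apply_ne h.ne', sub_self]

theorem w_spec {x : Matrix (Fin (m + 1)) (Fin (m + 1)) F} (hx : UT x) (hS : ∀ k, S k ≠ 0)
    (hxS : ∀ i : Fin m, x i.castSucc i.succ = S i) (r : ℕ) (hr : r ≤ m) :
    (∀ i : Fin (m + 1), m - r < (i : ℕ) → w S x r i = 0) ∧
      ∀ i : Fin (m + 1), (i : ℕ) = m - r → w S x r i = 1 := by
  induction r with
  | zero =>
    constructor
    · intro i hi
      have := i.2
      omega
    · intro i hi
      have h1 : i = Fin.last m := Fin.ext (by simpa using hi)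
      rw [w_zero, h1, Pi.single_eq_same]
  | succ r ih =>
    obtain ⟨ih1, ih2⟩ := ih (by omega)
    have key : ∀ i : Fin (m + 1), m - (r + 1) < (i : ℕ) → ((x - 1) *ᵥ w S x r) i = 0 := by
      intro i hi
      rw [Matrix.mulVec, dotProduct]
      refine Finset.sum_eq_zero fun j _ => ?_
      rcases le_or_gt j i with h | h
      · rw [sub_one_apply_of_le hx h, zero_mul]
      · rw [ih1 j (by rw [Fin.lt_def] at h; omega), mul_zero]
    constructor
    · intro i hi
      rw [w_succ, Pi.smul_apply, key i hi, smul_zero]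
    · intro i hi
      have hm : m - 1 - r < m := by omega
      have h1 : i = (⟨m - 1 - r, hm⟩ : Fin m).castSucc := Fin.ext (by
        simp only [Fin.val_castSucc]; omega)
      rw [w_succ, Pi.smul_apply, Matrix.mulVec, dotProduct,
        Finset.sum_eq_single (⟨m - 1 - r, hm⟩ : Fin m).succ]
      · rw [ih2 _ (by simp only [Fin.val_succ]; omega), mul_one, h1, Matrix.sub_apply, hxS,
          Matrix.one_apply_ne (Fin.castSucc_lt_succ).ne, sub_zero, smul_eq_mul]
        exact inv_mul_cancel₀ (hS _)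
      · intro j _ hj
        rcases le_or_gt j i with h | h
        · rw [sub_one_apply_of_le hx h, zero_mul]
        · rw [ih1 j, mul_zero]
          have h2 : (j : ℕ) ≠ m - 1 - r + 1 := fun h3 => hj (Fin.ext (by
            simp only [Fin.val_succ]; exact h3))
          rw [Fin.lt_def] at h
          omega
      · intro h; exact absurd (Finset.mem_univ _) h

theorem exists_P {x : Matrix (Fin (m + 1)) (Fin (m + 1)) F} (hx : UT x) (hS : ∀ k, S k ≠ 0)
    (hxS : ∀ i : Fin m, x i.castSucc i.succ = S i) :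
    ∃ P : Matrix (Fin (m + 1)) (Fin (m + 1)) F, UT P ∧ x * P = P * (1 + D m S) := by
  refine ⟨Matrix.of fun i k => w S x (m - k) i, ⟨?_, ?_⟩, ?_⟩
  · intro i
    have := i.2
    exact (w_spec S hx hS hxS (m - i) (by omega)).2 i (by omega)
  · intro i j hij
    have := i.2
    rw [Fin.lt_def] at hij
    exact (w_spec S hx hS hxS (m - j) (by omega)).1 i (by omega)
  · suffices h : (x - 1) * (Matrix.of fun i (k : Fin (m + 1)) => w S x (m - k) i) =
        (Matrix.of fun i (k : Fin (m + 1)) => w S x (m - k) i) * D m S by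
      rw [Matrix.mul_add, Matrix.mul_one, ← h, Matrix.sub_mul, Matrix.one_mul]
      abel
    ext i k
    rw [Matrix.mul_apply, Matrix.mul_apply]
    simp only [Matrix.of_apply]
    change ((x - 1) *ᵥ w S x (m - k)) i = _
    induction k using Fin.cases with
    | zero =>
      have h1 : ((x - 1) *ᵥ w S x (m - (0 : Fin (m + 1)))) i = 0 := by
        rw [Matrix.mulVec, dotProduct]
        refine Finset.sum_eq_zero fun j _ => ?_
        rcases le_or_gt j i with h | h
        · rw [sub_one_apply_of_le hx h, zero_mul]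
        · rw [(w_spec S hx hS hxS (m - (0 : Fin (m + 1))) (by omega)).1 j (by
            rw [Fin.lt_def] at h
            simp only [Fin.val_zero]
            omega), mul_zero]
      rw [h1]
      symm
      refine Finset.sum_eq_zero fun j _ => ?_
      rw [D, Matrix.of_apply, if_neg, mul_zero]
      simp
    | succ k =>
      have hk := k.2
      have h1 : w S x (m - (k : ℕ)) = (S k)⁻¹ • ((x - 1) *ᵥ w S x (m - (k.succ : ℕ))) := by
        have h2 : m - (k : ℕ) = (m - (k.succ : ℕ)) + 1 := by
          simp only [Fin.val_succ]; omega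
        rw [h2, w_succ]
        congr 3
        simp only [Fin.val_succ]; omega
      have h2 : (x - 1) *ᵥ w S x (m - (k.succ : ℕ)) = S k • w S x (m - (k : ℕ)) := by
        rw [h1, smul_smul, mul_inv_cancel₀ (hS _), one_smul]
      rw [h2, Finset.sum_eq_single k.castSucc]
      · rw [D, Matrix.of_apply, if_pos (by simp), Pi.smul_apply, smul_eq_mul, mul_comm]
        rfl
      · intro j _ hj
        rw [D, Matrix.of_apply, if_neg, mul_zero]
        intro h
        apply hj
        apply Fin.ext
        simp only [Fin.val_succ, Fin.val_castSucc] at h ⊢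
        omega
      · intro h; exact absurd (Finset.mem_univ _) h

end jordan

/-- Two regular unipotent upper triangular matrices with equal superdiagonals are conjugate by an
element of determinant one. -/
theorem exists_conj {m : ℕ} {u x : GL (Fin (m + 1)) F} (hu : UT (u : Matrix (Fin (m + 1)) (Fin (m + 1)) F))
    (hx : UT (x : Matrix (Fin (m + 1)) (Fin (m + 1)) F))
    (hur : ∀ i : Fin m, u.1 i.castSucc i.succ ≠ 0)
    (h : ∀ i : Fin m, x.1 i.castSucc i.succ = u.1 i.castSucc i.succ) :
    ∃ g : GL (Fin (m + 1)) F, Matrix.GeneralLinearGroup.det g = 1 ∧ g * u * g⁻¹ = x := by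
  let S : ℕ → F := fun k => if hk : k < m then u.1 (⟨k, hk⟩ : Fin m).castSucc (⟨k, hk⟩ : Fin m).succ else 1
  have hS : ∀ k, S k ≠ 0 := by
    intro k
    by_cases hk : k < m
    · simp only [S, dif_pos hk]; exact hur _
    · simp only [S, dif_neg hk]; exact one_ne_zero
  have huS : ∀ i : Fin m, u.1 i.castSucc i.succ = S i := by
    intro i
    simp only [S, dif_pos i.2]
  have hxS : ∀ i : Fin m, x.1 i.castSucc i.succ = S i := fun i => (h i).trans (huS i)
  obtain ⟨P, hP, hP1⟩ := exists_P S hu hS huS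
  obtain ⟨Q, hQ, hQ1⟩ := exists_P S hx hS hxS
  let p : GL (Fin (m + 1)) F := Matrix.GeneralLinearGroup.mkOfDetNeZero P (by rw [hP.det]; exact one_ne_zero)
  let q : GL (Fin (m + 1)) F := Matrix.GeneralLinearGroup.mkOfDetNeZero Q (by rw [hQ.det]; exact one_ne_zero)
  have hp : (p : Matrix (Fin (m + 1)) (Fin (m + 1)) F) = P := rfl
  have hq : (q : Matrix (Fin (m + 1)) (Fin (m + 1)) F) = Q := rfl
  have h1 : ((p⁻¹ * u * p : GL (Fin (m + 1)) F) : Matrix (Fin (m + 1)) (Fin (m + 1)) F) = 1 + D m S := by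
    rw [mul_assoc, Units.val_mul, Units.val_mul, hp, hP1, ← hp, ← mul_assoc, ← Units.val_mul,
      inv_mul_cancel, Units.val_one, one_mul]
  have h2 : x * q = q * (p⁻¹ * u * p) := by
    apply Units.ext
    rw [Units.val_mul, Units.val_mul, h1, hq, hQ1]
  have hdp : Matrix.GeneralLinearGroup.det p = 1 := by
    apply Units.ext
    exact hP.det
  have hdq : Matrix.GeneralLinearGroup.det q = 1 := by
    apply Units.ext
    exact hQ.det
  refine ⟨q * p⁻¹, ?_, ?_⟩
  · rw [map_mul, map_inv, hdp, hdq, inv_one, one_mul]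
  · rw [show q * p⁻¹ * u * (q * p⁻¹)⁻¹ = q * (p⁻¹ * u * p) * q⁻¹ by group, ← h2,
      mul_inv_cancel_right]

end Cfsg.Agent.H505.S4536
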