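import Cfsg.Agent.H614.GLn.Labels
import Mathlib.FieldTheory.Finite.Basic
import Mathlib.FieldTheory.Galois.Basic
import Mathlib.NumberTheory.Padics.PadicVal.Basic

/-!
# The extension of degree `e p^s` generated by a `p`-element (D4-D of S4536)
-/

set_option autoImplicit false

open Polynomial

namespace Cfsg.Agent.H505.S4536.Ext

open Cfsg.Agent.H614.GLn

universe u

section arith

variable {q p : ℕ}

theorem dvd_pow_sub_one_iff (hq : 2 ≤ q) (n : ℕ) : p ∣ q ^ n - 1 ↔ orderOf (q : ZMod p) ∣ n := by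
  rw [orderOf_dvd_iff_pow_eq_one, ← ZMod.natCast_eq_zero_iff, Nat.cast_sub (Nat.one_le_pow _ _ (by omega)),
    Nat.cast_pow, Nat.cast_one, sub_eq_zero]

theorem orderOf_pos' (hp : p.Prime) (hu : IsUnit (q : ZMod p)) : 0 < orderOf (q : ZMod p) := by
  have : NeZero p := ⟨hp.ne_zero⟩
  obtain ⟨w, hw⟩ := hu
  rw [← hw, orderOf_units]
  exact orderOf_pos w

theorem dvd_of_pow_sub_one_dvd (hq : 2 ≤ q) {f r : ℕ} (h : q ^ f - 1 ∣ q ^ r - 1) : f ∣ r := by
  have h1 := Nat.pow_sub_one_gcd_pow_sub_one q f r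
  rw [Nat.gcd_eq_left h] at h1
  have h2 : q ^ f = q ^ (Nat.gcd f r) := by
    have h3 : 1 ≤ q ^ f := Nat.one_le_pow _ _ (by omega)
    have h4 : 1 ≤ q ^ (Nat.gcd f r) := Nat.one_le_pow _ _ (by omega)
    omega
  have h5 := Nat.pow_right_injective hq h2
  rw [h5]
  exact Nat.gcd_dvd_right f r

theorem arith (hq : 2 ≤ q) (hp : p.Prime) (hu : IsUnit (q : ZMod p)) (s f' : ℕ)
    (hf' : f' ∣ orderOf (q : ZMod p) * p ^ s)
    (h : p ^ (padicValNat p (q ^ (orderOf (q : ZMod p) * p ^ s) - 1)) ∣ q ^ f' - 1) :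
    f' = orderOf (q : ZMod p) * p ^ s := by
  have : Fact p.Prime := ⟨hp⟩
  have he := orderOf_pos' hp hu
  obtain ⟨e, hee⟩ : ∃ e, e = orderOf (q : ZMod p) := ⟨_, rfl⟩
  rw [← hee] at hf' h he ⊢
  have hf0 : 0 < e * p ^ s := Nat.mul_pos he (Nat.pow_pos hp.pos)
  have hne : q ^ (e * p ^ s) - 1 ≠ 0 := by
    have : q ^ 1 ≤ q ^ (e * p ^ s) := Nat.pow_le_pow_right (by omega) hf0
    rw [pow_one] at this
    omega
  have h1 : p ∣ q ^ (e * p ^ s) - 1 := by
    rw [dvd_pow_sub_one_iff hq, ← hee]
    exact dvd_mul_right _ _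
  have ha : 0 < padicValNat p (q ^ (e * p ^ s) - 1) :=
    Nat.pos_of_ne_zero (dvd_iff_padicValNat_ne_zero hne |>.mp h1)
  have h2 : p ∣ q ^ f' - 1 := (dvd_pow_self p ha.ne').trans h
  rw [dvd_pow_sub_one_iff hq, ← hee] at h2
  obtain ⟨f'', rfl⟩ := h2
  have h3 : f'' ∣ p ^ s := Nat.dvd_of_mul_dvd_mul_left he hf'
  obtain ⟨i, hi, rfl⟩ := (Nat.dvd_prime_pow hp).mp h3
  rcases Nat.lt_or_ge i s with hlt | hge
  · exfalso
    obtain ⟨t, rfl⟩ : ∃ t, s = t + 1 := ⟨s - 1, by omega⟩
    have h4 : q ^ (e * p ^ i) - 1 ∣ q ^ (e * p ^ t) - 1 := by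
      apply Nat.pow_sub_one_dvd_pow_sub_one
      exact Nat.mul_dvd_mul_left _ (pow_dvd_pow p (by omega))
    have h5 := h.trans h4
    -- in the integers
    obtain ⟨y, hy⟩ : ∃ y : ℤ, y = (q : ℤ) ^ (e * p ^ t) := ⟨_, rfl⟩
    obtain ⟨a, hae⟩ : ∃ a, a = padicValNat p (q ^ (e * p ^ (t + 1)) - 1) := ⟨_, rfl⟩
    rw [← hae] at h5
    have h6 : ((p : ℤ)) ^ a ∣ y - 1 := by
      have h7 : ((p ^ a : ℕ) : ℤ) ∣ ((q ^ (e * p ^ t) - 1 : ℕ) : ℤ) := Int.natCast_dvd_natCast.mpr h5
      rw [Nat.cast_sub (Nat.one_le_pow _ _ (by omega))] at h7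
      push_cast at h7
      rwa [hy]
    have h8 : (p : ℤ) ∣ ∑ j ∈ Finset.range p, y ^ j := by
      rw [← ZMod.intCast_zmod_eq_zero_iff_dvd]
      have h9 : (y : ZMod p) = 1 := by
        have h10 : (p : ℤ) ∣ y - 1 := by
          refine (dvd_pow_self (p : ℤ) ?_).trans h6
          rw [hae]
          exact ha.ne'
        have h11 := (ZMod.intCast_zmod_eq_zero_iff_dvd (y - 1) p).mpr h10
        push_cast at h11
        exact sub_eq_zero.mp h11
      push_cast
      rw [h9]
      simp
    have h12 : (p : ℤ) ^ (a + 1) ∣ (q : ℤ) ^ (e * p ^ (t + 1)) - 1 := by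
      have h13 : (q : ℤ) ^ (e * p ^ (t + 1)) = y ^ p := by
        rw [hy, ← pow_mul]
        congr 1
        ring
      rw [h13, ← geom_sum_mul y p, pow_succ, mul_comm]
      exact mul_dvd_mul h8 h6
    have h14 : p ^ (a + 1) ∣ q ^ (e * p ^ (t + 1)) - 1 := by
      have h15 : ((p ^ (a + 1) : ℕ) : ℤ) ∣ ((q ^ (e * p ^ (t + 1)) - 1 : ℕ) : ℤ) := by
        rw [Nat.cast_sub (Nat.one_le_pow _ _ (by omega))]
        push_cast
        exact h12
      exact Int.natCast_dvd_natCast.mp h15
    rw [hae] at h14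
    exact pow_succ_padicValNat_not_dvd hne h14
  · have : i = s := by omega
    rw [this]

end arith

theorem natDegree_minpoly_le {F E Ω : Type*} [Field F] [Field E] [Field Ω] [Algebra F E] [Algebra E Ω]
    [Algebra F Ω] [IsScalarTower F E Ω] [FiniteDimensional F E] (α : Ω) (h : IsIntegral E α) :
    IsIntegral F α ∧ (minpoly F α).natDegree ≤ Module.finrank F E * (minpoly E α).natDegree := by
  have hint : IsIntegral F α := isIntegral_trans α h
  refine ⟨hint, ?_⟩
  let L := IntermediateField.adjoin E {α}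
  have hfin : FiniteDimensional E L := IntermediateField.adjoin.finiteDimensional h
  have hL : Module.finrank E L = (minpoly E α).natDegree := IntermediateField.adjoin.finrank h
  have hF : FiniteDimensional F L := Module.Finite.trans E L
  have hle : IntermediateField.adjoin F {α} ≤ L.restrictScalars F := by
    rw [IntermediateField.adjoin_le_iff, Set.singleton_subset_iff]
    exact IntermediateField.mem_adjoin_simple_self E α
  have hF' : FiniteDimensional F (L.restrictScalars F) := hF
  have h2 : Module.finrank F (IntermediateField.adjoin F {α}) ≤ Module.finrank F (L.restrictScalars F) :=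
    LinearMap.finrank_le_finrank_of_injective (f := (IntermediateField.inclusion hle).toLinearMap)
      (IntermediateField.inclusion hle).injective
  rw [IntermediateField.adjoin.finrank hint] at h2
  refine h2.trans (le_of_eq ?_)
  rw [← hL]
  exact (Module.finrank_mul_finrank F E L).symm

section fields

variable {F : Type u} [Field F] [Finite F] {K : Type u} [Field K] [Algebra F K] {θ : K →*₀ ℂ} {N M : ℕ} [NeZero M]
  {p : ℕ}

omit [Finite F] [NeZero M] in
theorem finrank_dvd (hctx : Ctx F θ N M) {f : ℕ} (hf : 0 < f) (hfN : f ≤ N) : f ∣ Module.finrank F K := by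
  have := hctx.finF
  have := hctx.finK
  have : Module.Finite F K := Module.Finite.of_finite
  have hq : 2 ≤ Nat.card F := Finite.one_lt_card
  have h1 := hctx.dvd f hf hfN
  rw [← hctx.card, Nat.card_units, Module.natCard_eq_pow_finrank (K := F) (V := K)] at h1
  exact dvd_of_pow_sub_one_dvd hq h1

omit [Finite F] [NeZero M] in
/-- the intermediate field of degree `f` -/
theorem exists_field (hctx : Ctx F θ N M) {f : ℕ} (hf : 0 < f) (hfN : f ≤ N) :
    ∃ E : IntermediateField F K, Module.finrank F E = f := by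
  have := hctx.finF
  have := hctx.finK
  have : Module.Finite F K := Module.Finite.of_finite
  have := Fintype.ofFinite F
  obtain ⟨l, hl⟩ := finrank_dvd hctx hf hfN
  have hr : 0 < Module.finrank F K := Module.finrank_pos
  have hl0 : 0 < l := by
    rcases Nat.eq_zero_or_pos l with rfl | h
    · rw [mul_zero] at hl; omega
    · exact h
  refine ⟨IntermediateField.fixedField (Subgroup.zpowers ((FiniteField.frobeniusAlgEquivOfAlgebraic F K) ^ f)), ?_⟩
  have h1 := IntermediateField.finrank_fixedField_eq_card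
    (Subgroup.zpowers ((FiniteField.frobeniusAlgEquivOfAlgebraic F K) ^ f))
  rw [Nat.card_zpowers, orderOf_pow_of_dvd hf.ne' (by
    rw [FiniteField.orderOf_frobeniusAlgEquivOfAlgebraic, hl]; exact dvd_mul_right _ _),
    FiniteField.orderOf_frobeniusAlgEquivOfAlgebraic, hl, Nat.mul_div_cancel_left _ hf] at h1
  have h2 := Module.finrank_mul_finrank F
    (IntermediateField.fixedField (Subgroup.zpowers ((FiniteField.frobeniusAlgEquivOfAlgebraic F K) ^ f))) K
  rw [h1, hl] at h2
  exact Nat.eq_of_mul_eq_mul_right hl0 h2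

omit [Finite F] [NeZero M] in
/-- splitting over the intermediate field -/
theorem splits_of (hctx : Ctx F θ N M) (E : IntermediateField F K) {k : ℕ} (hk : Module.finrank F E * k ≤ N)
    (h : E[X]) (hm : h.Monic) (hd : h.natDegree ≤ k) : (h.map (algebraMap E K)).Splits := by
  have := hctx.finK
  have : Module.Finite F K := Module.Finite.of_finite
  let Ω := AlgebraicClosure K
  apply Splits.of_splits_map (algebraMap K Ω) (IsAlgClosed.splits _)
  intro α hα
  rw [Polynomial.map_map, ← IsScalarTower.algebraMap_eq E K Ω] at hα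
  have hroot : Polynomial.aeval α h = 0 := by
    rw [Polynomial.mem_roots', Polynomial.IsRoot.def, Polynomial.eval_map_algebraMap] at hα
    exact hα.2
  have hint : IsIntegral E α := ⟨h, hm, hroot⟩
  -- the degree over `E`
  have hdeg : (minpoly E α).natDegree ≤ k :=
    (Polynomial.natDegree_le_of_dvd (minpoly.dvd E α hroot) hm.ne_zero).trans hd
  have h1 := natDegree_minpoly_le (F := F) (E := E) α hint
  have hdF : (minpoly F α).natDegree ≤ N := h1.2.trans ((Nat.mul_le_mul_left _ hdeg).trans hk)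
  have hmonic : (minpoly F α).Monic := minpoly.monic h1.1
  have hspl := hctx.spl _ hmonic hdF
  have hne : (minpoly F α).map (algebraMap F K) ≠ 0 := (hmonic.map _).ne_zero
  refine hspl.mem_range_of_isRoot hne ?_
  rw [Polynomial.map_map, ← IsScalarTower.algebraMap_eq F K Ω, Polynomial.IsRoot.def,
    Polynomial.eval_map_algebraMap]
  exact minpoly.aeval F α

omit [Finite F] [NeZero M] in
theorem ctx_ext (hctx : Ctx F θ N M) (E : IntermediateField F K) {k : ℕ} (hk : Module.finrank F E * k ≤ N) :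
    Ctx E θ k M where
  finF := by
    have := hctx.finK
    exact Finite.of_injective (fun x : E => (x : K)) Subtype.val_injective
  finK := hctx.finK
  inj := hctx.inj
  spl := fun h hm hd => splits_of hctx E hk h hm hd
  card := hctx.card
  dvd := by
    intro d hd hdk
    have := hctx.finK
    have : Module.Finite F K := Module.Finite.of_finite
    rw [Module.natCard_eq_pow_finrank (K := F) (V := E), ← pow_mul]
    exact hctx.dvd _ (Nat.mul_pos Module.finrank_pos hd) ((Nat.mul_le_mul_left _ hdk).trans hk)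

/-- D4-D: the extension of degree `e p^s` generated by a `p`-element -/
theorem exists_ext_data (hctx : Ctx F θ N M) (hp : p.Prime) (hpF : IsUnit (Nat.card F : ZMod p)) (s : ℕ)
    (hN : orderOf (Nat.card F : ZMod p) * p ^ s ≤ N) :
    ∃ (E : IntermediateField F K) (z : Eˣ), Module.finrank F E = orderOf (Nat.card F : ZMod p) * p ^ s ∧
      (∃ a : ℕ, orderOf z = p ^ a) ∧ z ≠ 1 ∧ Algebra.adjoin F {(z : E)} = ⊤ ∧ Finite E ∧
      ∀ k : ℕ, orderOf (Nat.card F : ZMod p) * p ^ s * k ≤ N → Ctx E θ k M := by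
  have : Fact p.Prime := ⟨hp⟩
  have hq : 2 ≤ Nat.card F := Finite.one_lt_card
  have := hctx.finK
  have : Module.Finite F K := Module.Finite.of_finite
  have hf : 0 < orderOf (Nat.card F : ZMod p) * p ^ s := Nat.mul_pos (orderOf_pos' hp hpF) (Nat.pow_pos hp.pos)
  obtain ⟨E, hE⟩ := exists_field hctx hf hN
  have hEfin : Finite E := Finite.of_injective (fun x : E => (x : K)) Subtype.val_injective
  have hcard : Nat.card Eˣ = Nat.card F ^ (orderOf (Nat.card F : ZMod p) * p ^ s) - 1 := by
    rw [Nat.card_units, Module.natCard_eq_pow_finrank (K := F) (V := E), hE]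
  have hne : Nat.card F ^ (orderOf (Nat.card F : ZMod p) * p ^ s) - 1 ≠ 0 := by
    have : Nat.card F ^ 1 ≤ Nat.card F ^ (orderOf (Nat.card F : ZMod p) * p ^ s) :=
      Nat.pow_le_pow_right (by omega) hf
    rw [pow_one] at this
    omega
  obtain ⟨g, hg⟩ := IsCyclic.exists_ofOrder_eq_natCard (α := Eˣ)
  rw [hcard] at hg
  obtain ⟨P, hP⟩ : ∃ P, P = p ^ (padicValNat p (Nat.card F ^ (orderOf (Nat.card F : ZMod p) * p ^ s) - 1)) :=
    ⟨_, rfl⟩
  have hPd : P ∣ Nat.card F ^ (orderOf (Nat.card F : ZMod p) * p ^ s) - 1 := by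
    rw [hP]; exact pow_padicValNat_dvd
  have hPpos : 0 < P := by rw [hP]; exact Nat.pow_pos hp.pos
  obtain ⟨w, hw⟩ := hPd
  have hw0 : w ≠ 0 := by
    rintro rfl
    rw [mul_zero] at hw
    exact hne hw
  have hz : orderOf (g ^ w) = P := by
    rw [orderOf_pow_of_dvd hw0 (by rw [hg, hw]; exact dvd_mul_left _ _), hg, hw,
      Nat.mul_div_cancel _ (Nat.pos_of_ne_zero hw0)]
  refine ⟨E, g ^ w, hE, ⟨_, by rw [hz, hP]⟩, ?_, ?_, hEfin, fun k hk => ctx_ext hctx E (by rwa [hE])⟩
  · intro h1
    rw [h1, orderOf_one] at hz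
    have h2 : p ∣ Nat.card F ^ (orderOf (Nat.card F : ZMod p) * p ^ s) - 1 := by
      rw [dvd_pow_sub_one_iff hq]
      exact dvd_mul_right _ _
    have h3 := dvd_iff_padicValNat_ne_zero hne |>.mp h2
    have h4 : p ∣ P := by rw [hP]; exact dvd_pow_self p h3
    rw [← hz] at h4
    exact hp.one_lt.ne' (Nat.dvd_one.mp h4)
  · let L := IntermediateField.adjoin F {((g ^ w : Eˣ) : E)}
    have hzL : ((g ^ w : Eˣ) : E) ∈ L := IntermediateField.mem_adjoin_simple_self F _
    have hLd : Module.finrank F L ∣ orderOf (Nat.card F : ZMod p) * p ^ s := by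
      rw [← hE, ← Module.finrank_mul_finrank F L E]
      exact dvd_mul_right _ _
    have hLfin : Finite L := Finite.of_injective (fun x : L => (x : E)) Subtype.val_injective
    have hpow : (g ^ w) ^ (Nat.card F ^ (Module.finrank F L) - 1) = 1 := by
      have := Fintype.ofFinite L
      have h5 : (⟨((g ^ w : Eˣ) : E), hzL⟩ : L) ≠ 0 := by
        intro h6
        have h7 := congrArg (fun x : L => (x : E)) h6
        exact (g ^ w).ne_zero h7
      have h8 := FiniteField.pow_card_sub_one_eq_one _ h5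
      rw [← Nat.card_eq_fintype_card, Module.natCard_eq_pow_finrank (K := F) (V := L)] at h8
      apply Units.ext
      have h9 := congrArg (fun x : L => (x : E)) h8
      rw [Units.val_pow_eq_pow_val]
      exact h9
    have h10 := orderOf_dvd_of_pow_eq_one hpow
    rw [hz, hP] at h10
    have h11 := arith hq hp hpF s (Module.finrank F L) hLd h10
    have h12 : L = ⊤ := by
      apply IntermediateField.eq_of_le_of_finrank_eq le_top
      rw [h11, IntermediateField.finrank_top', hE]
    have h13 : L.toSubalgebra = Algebra.adjoin F {((g ^ w : Eˣ) : E)} :=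
      IntermediateField.adjoin_simple_toSubalgebra_of_isAlgebraic (IsAlgebraic.of_finite F _)
    rw [← h13, h12]
    rfl

end fields

end Cfsg.Agent.H505.S4536.Ext
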